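import Cfsg.Agent.Lib.PSLThree.Rep.Families
import Cfsg.Agent.Lib.PSLThree.Small.Main

/-!
# The residual classes of `SL₃(q)` and `SU₃(q)`: assembly

`linear_class` and `unitary_class` deduce the conclusions of the classification from the transvection
theorem, the dihedral Sylow theorem and the characteristic two theorem, taken as hypotheses.
-/

set_option autoImplicit false
set_option linter.unusedSectionVars false
set_option linter.style.haveILetI false

namespace Cfsg.Agent.PSLThree.Residual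

open Matrix
open Cfsg.Geo (IsResidualCore IsMaximalIn)

variable {F : Type*} [Field F] [Fintype F] {H P : Subgroup (GL (Fin 3) F)}

/-- the alternatives in characteristic two -/
def EvenType (P : Subgroup (GL (Fin 3) F)) : Prop :=
  LinType P ∨ UniType P ∨
    (∃ (K : Type) (_ : Field K) (_ : Fintype K), Fintype.card K = 7 ∧
      Nonempty (Bar P ≃* Matrix.ProjectiveSpecialLinearGroup (Fin 2) K)) ∨
    Nonempty (Bar P ≃* alternatingGroup (Fin 6))

theorem core_of_residual (hP : IsResidualCore H P) (hle : P ≤ Cfsg.Geo.specialLinear (Fin 3) F) : Core P :=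
  ⟨hle, hP.perfect, hP.simple, hP.nonabelian, hP.absIrred.1⟩

theorem seven_top (h2 : Fintype.card F = 2) {K : Type} [Field K] [Fintype K] (h7 : Fintype.card K = 7)
    (e : Bar P ≃* Matrix.ProjectiveSpecialLinearGroup (Fin 2) K) : P = ⊤ := by
  classical
  haveI : Fact (Nat.Prime 2) := ⟨Nat.prime_two⟩
  obtain ⟨f⟩ := Rep.psl_three_two h7
  have hb : Nat.card (Bar P) = 168 := by
    rw [Nat.card_congr (e.trans f).toEquiv]
    have hcard := Classical.Linear.gcd_mul_natCard_PSL_fin (F := ZMod 2) (show 1 ≤ 3 by omega)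
    have hSL := Classical.Linear.mul_natCard_SL_fin (F := ZMod 2) (show 1 ≤ 3 by omega)
    rw [ZMod.card, Fin.prod_univ_three] at hSL
    rw [ZMod.card] at hcard
    norm_num at hSL hcard
    rw [Nat.card_eq_fintype_card]
    omega
  have hG : Nat.card (GL (Fin 3) F) = 168 := by
    rw [Matrix.card_GL_field, h2, Fin.prod_univ_three]
    norm_num
  refine Subgroup.eq_top_of_le_card P ?_
  rw [hG, ← hb]
  exact Nat.card_le_card_of_surjective _ (QuotientGroup.mk_surjective)

variable (p α : ℕ) [Fact p.Prime] (hF : Fintype.card F = p ^ α)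
  (hC : ∀ P : Subgroup (GL (Fin 3) F), p ≠ 2 → Core P → HasTrv P → LinType P ∨ UniType P)
  (hD : ∀ P : Subgroup (GL (Fin 3) F), p ≠ 2 → Core P → ¬ HasTrv P → ∀ S : Sylow 2 (Bar P),
    ∃ n, 2 ≤ n ∧ Nonempty ((S : Subgroup (Bar P)) ≃* DihedralGroup n))
  (hE : ∀ P : Subgroup (GL (Fin 3) F), p = 2 → Core P → EvenType P)
include hF hC hD hE

theorem linear_class [CharP F p] (hH : IsMaximalIn (Cfsg.Geo.specialLinear (Fin 3) F) H)
    (hS : Cfsg.Geo.InLinearResidualClass H) :
    ∃ P : Subgroup (GL (Fin 3) F), IsResidualCore H P ∧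
    ((Nonempty (Bar P ≃* Matrix.ProjectiveSpecialLinearGroup (Fin 3) (ZMod 2)) ∧
        Fintype.card F = p ∧ p ≠ 2 ∧ (p % 7 = 1 ∨ p % 7 = 2 ∨ p % 7 = 4)) ∨
     (Nonempty (Bar P ≃* alternatingGroup (Fin 6)) ∧
        ((Fintype.card F = p ∧ (p % 15 = 1 ∨ p % 15 = 4)) ∨
          (Fintype.card F = p ^ 2 ∧ p ≠ 3 ∧ (p % 5 = 2 ∨ p % 5 = 3))))) := by
  obtain ⟨P, hP, hK, hreal, hU⟩ := Rep.linear_traces hS
  have hle := hP.le.trans hH.1.le
  have hcore := core_of_residual hP hle
  refine ⟨P, hP, ?_⟩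
  by_cases hp : p = 2
  · rcases hE P hp hcore with h | h | ⟨K, i, j, h7, ⟨e⟩⟩ | ⟨⟨e⟩⟩
    · exact absurd h (Rep.not_linType_linear hH hP)
    · exact absurd h (Rep.not_uniType_linear hP hU)
    · obtain ⟨h1, -⟩ := Rep.linear_seven p hle hK hreal hP.perfect hU h7 e
      have htop := seven_top (h1.trans hp) h7 e
      exact absurd (le_antisymm hH.1.le (le_trans le_top (htop.ge.trans hP.le))) hH.1.ne
    · exact Or.inr ⟨⟨e⟩, Rep.linear_six p hle hK hreal hU e⟩
  · refine Rep.linear_small p hle hK hreal hP.perfect hU hp (α := α) ?_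
    by_cases hT : HasTrv P
    · rcases hC P hp hcore hT with h | h
      · exact absurd h (Rep.not_linType_linear hH hP)
      · exact absurd h (Rep.not_uniType_linear hP hU)
    · exact Small.small_type p α hp hF hcore hT (hD P hp hcore hT)

theorem unitary_class [CharP F p] {q : ℕ} (hFq : Fintype.card F = q ^ 2) (hq : 3 ≤ q)
    (hH : IsMaximalIn (Cfsg.GU 3 F q ⊓ Cfsg.Geo.specialLinear (Fin 3) F) H)
    (hS : Cfsg.Geo.InUnitaryResidualClass H)
    (hFive : ∀ P : Subgroup (GL (Fin 3) F), q = 5 → IsResidualCore H P →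
      ∀ (K : Type) (_ : Field K) (_ : Fintype K), Fintype.card K = 7 →
        (Bar P ≃* Matrix.ProjectiveSpecialLinearGroup (Fin 2) K) → False) :
    ∃ P : Subgroup (GL (Fin 3) F), IsResidualCore H P ∧ q.Prime ∧
    ((Nonempty (Bar P ≃* Matrix.ProjectiveSpecialLinearGroup (Fin 3) (ZMod 2)) ∧ q ≠ 5 ∧
        (q % 7 = 3 ∨ q % 7 = 5 ∨ q % 7 = 6)) ∨
     (Nonempty (Bar P ≃* alternatingGroup (Fin 6)) ∧ (q % 15 = 11 ∨ q % 15 = 14 ∨ q = 5)) ∨
     (Nonempty (Bar P ≃* alternatingGroup (Fin 7)) ∧ q = 5)) := by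
  obtain ⟨P, hP, hK, hreal⟩ := Rep.unitary_traces hS
  have hS' := hP.le.trans hH.1.le
  have hle := hS'.trans inf_le_right
  have hcore := core_of_residual hP hle
  have htw := Rep.twist_of_le_GU hFq (hS'.trans inf_le_left)
  refine ⟨P, hP, ?_⟩
  have hnl := Rep.not_linType_unitary hFq hP (hS'.trans inf_le_left)
  have hnu := Rep.not_uniType_unitary hFq hH hP
  by_cases hp : p = 2
  · rcases hE P hp hcore with h | h | ⟨K, i, j, h7, ⟨e⟩⟩ | ⟨⟨e⟩⟩
    · exact absurd h hnl
    · exact absurd h hnu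
    · obtain ⟨h1, -⟩ := Rep.unitary_seven p hle hK hreal hP.perfect hFq h7 e
      omega
    · obtain ⟨h1, -⟩ := Rep.unitary_six p hle hK hreal hFq htw e
      omega
  · have hsmall : SmallType F p α (Bar P) := by
      by_cases hT : HasTrv P
      · exact ((hC P hp hcore hT).elim hnl hnu).elim
      · exact Small.small_type p α hp hF hcore hT (hD P hp hcore hT)
    obtain ⟨hqp, -, hd⟩ := Rep.unitary_small p hle hK hreal hP.perfect hFq htw hp hsmall
    refine ⟨hqp, ?_⟩
    rcases hd with ⟨⟨e⟩, h⟩ | h | h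
    · refine Or.inl ⟨⟨e⟩, fun h5 => ?_, h⟩
      haveI : Fact (Nat.Prime 7) := ⟨by norm_num⟩
      obtain ⟨f⟩ := Rep.psl_three_two (K := ZMod 7) (ZMod.card 7)
      exact hFive P h5 hP (ZMod 7) inferInstance inferInstance (ZMod.card 7) (e.trans f.symm)
    · exact Or.inr (Or.inl h)
    · exact Or.inr (Or.inr h)

end Cfsg.Agent.PSLThree.Residual
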