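import Cfsg.Agent.Lib.PSLThree.Residual.Assembly
import Cfsg.Agent.Lib.PSLThree.Trans.Thick
import Cfsg.Agent.Lib.PSLThree.Even.Basic
import Cfsg.Agent.Lib.PSLThree.Basic.Reducible
import Cfsg.Agent.S0204

/-!
# Cores in characteristic two: the split into thick and thin
-/

set_option autoImplicit false
set_option linter.unusedSectionVars false
set_option linter.style.haveILetI false

namespace Cfsg.Agent.PSLThree.Residual

open Matrix
open Cfsg.Agent.Forms.Max.SL3.Singer (Tr)

variable {F : Type*} [Field F] [Fintype F] {P : Subgroup (GL (Fin 3) F)}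

theorem even_card (hC : Core P) : Even (Nat.card (Bar P)) := by
  haveI := hC.simple
  obtain ⟨E, hE⟩ := Cfsg.Agent.S0204.result (G := Bar P)
    fun h => hC.nonabelian ⟨⟨fun a b => by exact mul_comm' a b⟩⟩
  have := E.card_subgroup_dvd_card
  rw [hE.card_four] at this
  exact even_iff_two_dvd.2 (dvd_trans (by norm_num) this)

theorem hasTrv_of_even [CharP F 2] (hC : Core P) : HasTrv P := by
  obtain ⟨J, hJ, hJJ, hne⟩ := exists_involution (even_card hC) hC.le
  obtain ⟨u, φ, hu, hφ, h, -⟩ := Even.tr_of_invol hC.le hJ hJJ fun h => hne (by subst h; rfl)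
  exact ⟨u, φ, hu, hφ, h⟩

/-- a core in characteristic two is of linear or unitary type or all its root groups are thin -/
theorem thick_or_thin [CharP F 2] (hC : Core P) : (LinType P ∨ UniType P) ∨ Even.Thin P := by
  by_cases h : Even.Thin P
  · exact Or.inr h
  · simp only [Even.Thin] at h
    push Not at h
    obtain ⟨u, φ, c, hu, hφ, h1, h2, h3, h4⟩ := h
    exact Or.inl (Trans.trans_type_even hC ⟨u, φ, c, hu, hφ, h1, h2, h3, h4⟩)

theorem even_type [CharP F 2] (hC : Core P)
    (hthin : Even.Thin P → (∃ (K : Type) (_ : Field K) (_ : Fintype K), Fintype.card K = 7 ∧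
      Nonempty (Bar P ≃* Matrix.ProjectiveSpecialLinearGroup (Fin 2) K)) ∨
        Nonempty (Bar P ≃* alternatingGroup (Fin 6))) : EvenType P := by
  rcases thick_or_thin hC with (h | h) | h
  · exact Or.inl h
  · exact Or.inr (Or.inl h)
  · exact Or.inr (Or.inr (hthin h))

end Cfsg.Agent.PSLThree.Residual
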